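import Mathlib
import Cfsg.Agent.Schreier.MTwentyThree

/-!
# Every automorphism of `M23` is inner

An automorphism permutes the 23 point stabilisers (`Schreier.MTwentyThree`), so it is the conjugation by a
permutation of the points; this permutation preserves the octads through the fixed point (they are the fixed
point sets of the involutions), so it lies in `M23`.
-/

set_option autoImplicit false
open scoped Pointwise
open Cfsg MulAction

namespace Cfsg.Agent.UGT.MTwentyThree.Aut

open Cfsg.Agent.Schreier.MTwentyThree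
open Cfsg.Agent.J4Type.InvFix
open Cfsg.Agent.SporadicA.MathieuRecog

section

variable (α : MulAut Cfsg.Spor.M23)

theorem eq_of_St_eq {x y : GolayPt} (hx : x ≠ none) (hy : y ≠ none) (h : St x = St y) : x = y := by
  refine eq_of_fixed hy hx ?_
  intro m hm
  rw [← h] at hm
  exact hm

open Classical in
/-- the induced map on the points -/
noncomputable def sig (x : GolayPt) : GolayPt :=
  if h : x ≠ none then (exists_image α h).choose else none

theorem sig_ne {x : GolayPt} (hx : x ≠ none) : sig α x ≠ none := by
  unfold sig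
  rw [dif_pos hx]
  exact (exists_image α hx).choose_spec.1

theorem sig_spec {x : GolayPt} (hx : x ≠ none) : (St x).map α.toMonoidHom = St (sig α x) := by
  unfold sig
  rw [dif_pos hx]
  exact (exists_image α hx).choose_spec.2

theorem sig_none : sig α none = none := by
  unfold sig
  rw [dif_neg (fun h => h rfl)]

theorem sig_apply {x : GolayPt} (hx : x ≠ none) (m : Cfsg.Spor.M23) :
    (α m : Equiv.Perm GolayPt) (sig α x) = sig α ((m : Equiv.Perm GolayPt) x) := by
  refine eq_of_St_eq (apply_ne (α m) (sig_ne α hx)) (sig_ne α (apply_ne m hx)) ?_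
  rw [← map_conj_St, ← sig_spec α (apply_ne m hx), ← map_conj_St, ← sig_spec α hx, Subgroup.map_map,
    Subgroup.map_map]
  congr 1
  refine MonoidHom.ext fun n => ?_
  show α m * α n * (α m)⁻¹ = α (m * n * m⁻¹)
  rw [map_mul, map_mul, map_inv]

theorem sig_injective : Function.Injective (sig α) := by
  intro x x' hxx
  by_cases hx : x = none
  · by_cases hx' : x' = none
    · rw [hx, hx']
    · exfalso
      rw [hx, sig_none] at hxx
      exact sig_ne α hx' hxx.symm
  · by_cases hx' : x' = none
    · exfalso
      rw [hx', sig_none] at hxx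
      exact sig_ne α hx hxx
    · refine eq_of_St_eq hx hx' ?_
      apply Subgroup.map_injective (f := α.toMonoidHom) α.injective
      rw [sig_spec α hx, sig_spec α hx', hxx]

/-- the induced permutation of the points -/
noncomputable def sigma : Equiv.Perm GolayPt :=
  Equiv.ofBijective (sig α) (Finite.injective_iff_bijective.1 (sig_injective α))

theorem sigma_apply (x : GolayPt) : sigma α x = sig α x := rfl

theorem sigma_conj (m : Cfsg.Spor.M23) :
    (α m : Equiv.Perm GolayPt) = sigma α * m * (sigma α)⁻¹ := by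
  rw [eq_mul_inv_iff_mul_eq]
  apply Equiv.ext
  intro x
  rw [Equiv.Perm.mul_apply, Equiv.Perm.mul_apply, sigma_apply, sigma_apply]
  by_cases hx : x = none
  · subst hx
    rw [apply_none, sig_none, apply_none]
  · exact sig_apply α hx m

/-- `sigma` maps octads through the fixed point to octads. -/
theorem sigma_octad {o : Finset GolayPt} (ho : o ∈ octads) (h0 : none ∈ o) :
    o.image (sigma α) ∈ octads := by
  classical
  have h16 := card_fix_octad ho
  obtain ⟨u, hu⟩ : ∃ u : fixingSubgroup M24 (o : Set GolayPt), u ≠ 1 := by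
    by_contra hcon
    push Not at hcon
    have : Nat.card (fixingSubgroup M24 (o : Set GolayPt)) = 1 := by
      rw [Nat.card_eq_one_iff_unique]
      exact ⟨⟨fun a b => (hcon a).trans (hcon b).symm⟩, ⟨1⟩⟩
    omega
  have hfix : ∀ p ∈ o, ((u : M24) : Equiv.Perm GolayPt) p = p := fun p hp => u.2 ⟨p, hp⟩
  have hsq : ((u : M24) : Equiv.Perm GolayPt) * ((u : M24) : Equiv.Perm GolayPt) = 1 := by
    refine (S0381.result o ho).2 _ ⟨(u : M24).2, ?_⟩
    intro p
    exact u.2 p
  have hM : ((u : M24) : Equiv.Perm GolayPt) ∈ Cfsg.Spor.M23 := by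
    rw [mem_M23_iff]
    exact ⟨(u : M24).2, hfix _ h0⟩
  set m : Cfsg.Spor.M23 := ⟨_, hM⟩ with hm
  have hm1 : m ≠ 1 := by
    intro h
    apply hu
    apply Subtype.ext
    apply Subtype.ext
    exact (congrArg Subtype.val h : ((u : M24) : Equiv.Perm GolayPt) = 1)
  have hm2 : m * m = 1 := Subtype.ext hsq
  have hc := sigma_conj α m
  have hv : (⟨(α m : Equiv.Perm GolayPt), M23_le_M24 (α m).2⟩ : M24) ^ 2 = 1 := by
    rw [pow_two]
    apply Subtype.ext
    change (α m : Equiv.Perm GolayPt) * (α m : Equiv.Perm GolayPt) = 1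
    have h2 : α m * α m = 1 := by rw [← map_mul, hm2, map_one]
    exact congrArg Subtype.val h2
  have hv1 : (⟨(α m : Equiv.Perm GolayPt), M23_le_M24 (α m).2⟩ : M24) ≠ 1 := by
    intro h
    apply hm1
    have h2 : (α m : Equiv.Perm GolayPt) = 1 := congrArg Subtype.val h
    have h3 : α m = 1 := Subtype.ext h2
    exact (map_eq_one_iff α α.injective).1 h3
  have hcard : (o.image (sigma α)).card = 8 := by
    rw [Finset.card_image_of_injective _ (sigma α).injective, ho.2]
  obtain ⟨o', ho', hsub, -⟩ := involution_fix hv hv1 (s := o.image (sigma α)) (by rw [hcard]; norm_num)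
    (by
      intro p hp
      obtain ⟨q, hq, rfl⟩ := Finset.mem_image.1 hp
      change (α m : Equiv.Perm GolayPt) (sigma α q) = sigma α q
      rw [hc, Equiv.Perm.mul_apply, Equiv.Perm.mul_apply,
        show (sigma α)⁻¹ (sigma α q) = q from (sigma α).symm_apply_apply q,
        show (m : Equiv.Perm GolayPt) q = q from hfix q hq])
  rwa [Finset.eq_of_subset_of_card_le hsub (by rw [hcard, ho'.2])]

/-- the restriction of `sigma` to the 23 points -/
noncomputable def tau : Equiv.Perm Pt23 :=
  (sigma α).subtypePerm (fun x => by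
    constructor
    · intro h
      rintro rfl
      exact h (sig_none α)
    · intro h
      exact sig_ne α h)

theorem tau_coe (x : Pt23) : (tau α x : GolayPt) = sigma α x := rfl

theorem tau_image {b : Finset Pt23} (hb : b ∈ B23) : b.image (tau α) ∈ B23 := by
  classical
  obtain ⟨c, hc, hnc, rfl⟩ := hb
  refine ⟨c.image (sigma α), sigma_octad α hc hnc, ?_, ?_⟩
  · rw [Finset.mem_image]
    exact ⟨none, hnc, sig_none α⟩
  · ext ⟨x, hx⟩
    simp only [Finset.mem_image, Finset.mem_subtype]
    constructor
    · rintro ⟨⟨y, hy⟩, hyc, hyx⟩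
      exact ⟨y, hyc, congrArg Subtype.val hyx⟩
    · rintro ⟨y, hyc, hyx⟩
      refine ⟨⟨y, ?_⟩, hyc, Subtype.ext hyx⟩
      rintro rfl
      exact hx (hyx.symm.trans (sig_none α))

theorem tau_mem : tau α ∈ Cfsg.setSystemAut B23 := by
  classical
  rw [Cfsg.Agent.SporadicA.Steiner23Aut.mem_aut_iff]
  intro b
  refine ⟨fun h => ?_, fun h => tau_image α h⟩
  let F : Finset (Finset Pt23) := Finset.univ.filter fun b => b ∈ B23
  have hF : ∀ b, b ∈ F ↔ b ∈ B23 := by
    intro b
    simp [F]
  have hmaps : ∀ b ∈ F, b.image (tau α) ∈ F := by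
    intro b hb
    rw [hF] at hb ⊢
    exact tau_image α hb
  have hinj : Set.InjOn (fun b : Finset Pt23 => b.image (tau α)) F :=
    fun a _ b _ hab => Finset.image_injective (tau α).injective hab
  have hsurj := Finset.surj_on_of_inj_on_of_card_le (s := F) (t := F)
    (fun b _ => b.image (tau α)) hmaps (fun a b ha hb hab => hinj ha hb hab) le_rfl
  obtain ⟨b', hb', he⟩ := hsurj (b.image (tau α)) ((hF _).2 h)
  have h2 : b = b' := Finset.image_injective (tau α).injective he
  rw [h2]
  exact (hF _).1 hb'

/-- **Every automorphism of `M23` is inner.** -/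
theorem exists_conj : ∃ m : Cfsg.Spor.M23, α = MulAut.conj m := by
  let _ := act23
  have := act23_faithful
  obtain ⟨f, hf, hfx⟩ := exists_hom (G := Cfsg.Spor.M23) (B := B23) act23_inv
  have hsurj : Function.Surjective f := ((Nat.bijective_iff_injective_and_card f).2 ⟨hf, by
    rw [card_M23]
    exact (Cfsg.Agent.SporadicA.Steiner23Aut.card_aut card_Pt23 B23_steiner).symm⟩).2
  obtain ⟨m, hm⟩ := hsurj ⟨tau α, tau_mem α⟩
  have hms : (m : Equiv.Perm GolayPt) = sigma α := by
    apply Equiv.ext
    intro x
    by_cases hx : x = none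
    · subst hx
      rw [apply_none, sigma_apply, sig_none]
    · have h1 := hfx m ⟨x, hx⟩
      rw [hm] at h1
      have h2 : ((tau α ⟨x, hx⟩ : Pt23) : GolayPt) = (m : Equiv.Perm GolayPt) x :=
        congrArg Subtype.val h1
      rw [← h2, tau_coe]
  refine ⟨m, ?_⟩
  apply MulEquiv.ext
  intro n
  apply Subtype.ext
  rw [sigma_conj α n, ← hms]
  rfl

end

end Cfsg.Agent.UGT.MTwentyThree.Aut
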