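import Mathlib
import Cfsg.Agent.UGT.MTwentyThree.Aut
import Cfsg.Agent.UGT.LB.Crit
import Cfsg.Agent.Lib.GenFitting
import Cfsg.Agent.S0367
import Cfsg.Agent.J4.M24Invol
import Cfsg.Agent.J4Type.FusionComm
import Cfsg.Agent.MonsterX.CoThreeDPerm

/-!
# `M23` in the Unbalanced Group Theorem

If `F*(G)` is the Mathieu group `M23` then `G = F*(G)` and the centraliser of every involution of `G` is
core-free: an involution of `M23` fixes the points of an octad `O`; the group of order 16 fixing `O`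
pointwise is regular on the other points.
-/

set_option autoImplicit false
open scoped Pointwise
open Cfsg MulAction

namespace Cfsg.Agent.UGT.MTwentyThree.End

open Cfsg.Agent.Schreier.MTwentyThree (apply_none M23_le_M24)
open Cfsg.Agent.J4Type.InvFix (involution_fix)
open Cfsg.Agent.SporadicA.MathieuRecog (mem_M23_iff)
open Cfsg.Agent.SporadicA.GolayBase Cfsg.Agent.SporadicA.GolayPerm
open Cfsg.Agent.SporadicA.OctadFix
open Cfsg.Agent.SporadicStructure.M24El
open Cfsg.Agent.J4.M24InvolData Cfsg.Agent.J4.M24Invol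
open Cfsg.Agent.J4Type.FusionComm (fixOct_comm exists_out)
open Cfsg.Agent.UGT.LB.Crit (Core core_centralizer)

/-! ### `M24` -/

theorem smul_eq_octad {o : Finset GolayPt} {g : Equiv.Perm GolayPt} (h : ∀ p, p ∈ o → g p ∈ o) : g • o = o := by
  apply Finset.eq_of_subset_of_card_le
  · intro y hy
    obtain ⟨x, hx, rfl⟩ := Finset.mem_smul_finset.1 hy
    exact h x hx
  · rw [Finset.card_smul_finset]

/-- An element of `M24` fixing all points outside an octad is trivial. -/
theorem eq_one_of_fix_compl {o : Finset GolayPt} (ho : o ∈ octads) {g : Equiv.Perm GolayPt} (hg : g ∈ M24)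
    (h : ∀ p, p ∉ o → g p = p) : g = 1 := by
  have hm : fin 4982904 ∈ octads :=
    (fin_mem_octads_iff (by norm_num)).2 ⟨by decide +kernel, by decide +kernel⟩
  obtain ⟨k, hk⟩ := S0367.result o (fin 4982904) ho hm
  have hdis : ∀ i < 24, Cfsg.Agent.MonsterX.CoThreeDPerm.nine.testBit i = true →
      Nat.testBit 4982904 i = false := by decide +kernel
  have h1 : (k : Equiv.Perm GolayPt) * g * (k : Equiv.Perm GolayPt)⁻¹ = 1 := by
    refine Cfsg.Agent.MonsterX.CoThreeDPerm.eq_one_of_nine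
      (M24.mul_mem (M24.mul_mem k.2 hg) (M24.inv_mem k.2)) ?_
    intro p hp
    have hp1 : p ∉ fin 4982904 := by
      rw [mem_fin] at hp ⊢
      rw [hdis _ (idx_lt p) hp]
      simp
    have hp2 : (k : Equiv.Perm GolayPt)⁻¹ p ∉ o := by
      intro h2
      apply hp1
      rw [← hk]
      have h3 := Finset.smul_mem_smul_finset (a := k) h2
      have h4 : k • ((k : Equiv.Perm GolayPt)⁻¹ p) = p := (k : Equiv.Perm GolayPt).apply_symm_apply p
      rwa [h4] at h3
    rw [Equiv.Perm.mul_apply, Equiv.Perm.mul_apply, h _ hp2]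
    exact (k : Equiv.Perm GolayPt).apply_symm_apply p
  have h2 : g = (k : Equiv.Perm GolayPt)⁻¹ * ((k : Equiv.Perm GolayPt) * g * (k : Equiv.Perm GolayPt)⁻¹) *
      (k : Equiv.Perm GolayPt) := by group
  rw [h2, h1]
  group

theorem P1_fix : ∀ i < 24, Nat.testBit 1327290 i = true → papp P1 i = i := by decide +kernel

theorem P2_move : ∀ i < 24, papp P2 i ≠ i := by decide +kernel

theorem pop_P1 : popcount 1327290 = 8 := by decide +kernel

/-- An involution of `M24` with a fixed point fixes exactly the points of an octad. -/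
theorem exists_fix_octad {u : M24} (hu : u ^ 2 = 1) (hu1 : u ≠ 1) {p : GolayPt} (hp : u • p = p) :
    ∃ o ∈ octads, ∀ q, u • q = q ↔ q ∈ o := by
  classical
  have hu' : u * u = 1 := by rw [← pow_two, hu]
  obtain ⟨g, hg | hg⟩ := invol_conj u hu' hu1
  · have hs : ∀ q, Nat.testBit 1327290 (idx q) = true → u • (g⁻¹ • q) = g⁻¹ • q := by
      intro q hq
      have h1 : el P1 • q = q := by
        rw [el_smul_pt ok_P1, P1_fix _ (idx_lt q) hq, pt_idx]
      rw [← hg, mul_smul, mul_smul] at h1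
      exact (inv_smul_eq_iff.2 h1.symm).symm
    obtain ⟨o, ho, -, h⟩ := involution_fix hu hu1 (s := (fin 1327290).image (fun q => g⁻¹ • q)) (by
        rw [Finset.card_image_of_injective _ (MulAction.injective g⁻¹), card_fin, pop_P1]
        norm_num) (by
        intro q hq
        obtain ⟨r, hr, rfl⟩ := Finset.mem_image.1 hq
        exact hs r (mem_fin.1 hr))
    exact ⟨o, ho, h⟩
  · exfalso
    have h1 : el P2 • (g • p) = g • p := by
      rw [← hg, mul_smul, mul_smul, inv_smul_smul, hp]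
    have h2 := idx_el_smul ok_P2 (g • p)
    rw [h1] at h2
    exact P2_move _ (idx_lt _) h2.symm

/-! ### `M23` -/

/-- The octad of an involution of `M23`. -/
theorem exists_octad_M23 {t : Cfsg.Spor.M23} (ht : t * t = 1) (ht1 : t ≠ 1) :
    ∃ o ∈ octads, none ∈ o ∧ ∀ q, (t : Equiv.Perm GolayPt) q = q ↔ q ∈ o := by
  have h1 : (⟨(t : Equiv.Perm GolayPt), M23_le_M24 t.2⟩ : M24) ^ 2 = 1 := by
    rw [pow_two]
    apply Subtype.ext
    change (t : Equiv.Perm GolayPt) * (t : Equiv.Perm GolayPt) = 1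
    exact congrArg Subtype.val ht
  have h2 : (⟨(t : Equiv.Perm GolayPt), M23_le_M24 t.2⟩ : M24) ≠ 1 := by
    intro h
    have h3 : (t : Equiv.Perm GolayPt) = 1 := congrArg Subtype.val h
    exact ht1 (Subtype.ext h3)
  obtain ⟨o, ho, h⟩ := exists_fix_octad h1 h2 (p := none) (apply_none t)
  exact ⟨o, ho, (h none).1 (apply_none t), h⟩

/-- **`O(C(t)) = 1` for the involutions of `M23`** -/
theorem core_eq_bot_M23 {t : Cfsg.Spor.M23} (ht : t * t = 1) (ht1 : t ≠ 1) {D : Subgroup Cfsg.Spor.M23}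
    (hD : Core t D) : D = ⊥ := by
  classical
  obtain ⟨o, ho, h0, hfix⟩ := exists_octad_M23 ht ht1
  rw [Subgroup.eq_bot_iff_forall]
  intro d hd
  have hodd : ∀ w ∈ D, w * w = 1 → w = 1 := by
    intro w hw hww
    have h1 : orderOf w ∣ 2 := orderOf_dvd_of_pow_eq_one (by rw [pow_two, hww])
    have h2 : Odd (orderOf w) := by
      refine hD.odd.of_dvd_nat ?_
      have := orderOf_dvd_natCard (⟨w, hw⟩ : D)
      rwa [← Subgroup.orderOf_coe] at this
    rcases (Nat.dvd_prime Nat.prime_two).1 h1 with h3 | h3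
    · exact orderOf_eq_one_iff.1 h3
    · rw [h3] at h2
      exact absurd h2 (by decide)
  -- `d` preserves the octad
  have hdt : (d : Equiv.Perm GolayPt) * t = t * d := congrArg Subtype.val (hD.comm d hd)
  have hdo : ∀ q, q ∈ o → (d : Equiv.Perm GolayPt) q ∈ o := by
    intro q hq
    rw [← hfix] at hq ⊢
    have h1 := congrArg (fun f : Equiv.Perm GolayPt => f q) hdt
    simp only [Equiv.Perm.mul_apply] at h1
    rw [← h1, hq]
  have hdo' : (d : Equiv.Perm GolayPt) • o = o := smul_eq_octad hdo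
  have hdM : (d : Equiv.Perm GolayPt) ∈ M24 := M23_le_M24 d.2
  have htfix : (t : Equiv.Perm GolayPt) ∈ fixOct o :=
    mem_fixOct.2 ⟨M23_le_M24 t.2, fun x hx => (hfix x).2 hx⟩
  -- `d` centralises the pointwise stabiliser
  have hcomm : ∀ v ∈ fixOct o, (d : Equiv.Perm GolayPt) * v = v * d := by
    intro v hv
    have hvM : v ∈ Cfsg.Spor.M23 := (mem_M23_iff _).2 ⟨(mem_fixOct.1 hv).1, (mem_fixOct.1 hv).2 _ h0⟩
    let vM : Cfsg.Spor.M23 := ⟨v, hvM⟩
    have hvt : vM * t = t * vM := Subtype.ext (fixOct_comm ho hv htfix)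
    have h1 : (d : Equiv.Perm GolayPt) * v * (d : Equiv.Perm GolayPt)⁻¹ ∈ fixOct o := by
      have h2 := (conj_mem_fixOct (o := o) (g := v) hdM).2 hv
      rwa [hdo'] at h2
    have h2 : (d : Equiv.Perm GolayPt) * v * (d : Equiv.Perm GolayPt)⁻¹ * v⁻¹ ∈ fixOct o :=
      (fixOct o).mul_mem h1 ((fixOct o).inv_mem hv)
    have h3 : d * vM * d⁻¹ * vM⁻¹ ∈ D := by
      have e : d * vM * d⁻¹ * vM⁻¹ = d * (vM * d⁻¹ * vM⁻¹) := by group
      rw [e]
      exact D.mul_mem hd (hD.conj vM hvt _ (D.inv_mem hd))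
    have h4 : d * vM * d⁻¹ * vM⁻¹ = 1 := by
      refine hodd _ h3 (Subtype.ext ?_)
      exact fixOct_sq ho h2
    have h5 : d * vM = vM * d := by
      have h6 : d * vM * d⁻¹ = vM := mul_inv_eq_one.mp h4
      rwa [mul_inv_eq_iff_eq_mul] at h6
    exact congrArg Subtype.val h5
  -- a translation `v` with `v p = d p`
  obtain ⟨p, hp⟩ := exists_out ho
  have hdp : (d : Equiv.Perm GolayPt) p ∉ o := by
    intro h
    apply hp
    rw [← hdo'] at h
    exact (mem_smul_iff _ _ _).1 h
  obtain ⟨v, ⟨hv, hvp⟩, -⟩ := existsUnique_fixOct ho hp hdp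
  have hone : v⁻¹ * (d : Equiv.Perm GolayPt) = 1 := by
    apply eq_one_of_fix_compl ho (M24.mul_mem (M24.inv_mem (mem_fixOct.1 hv).1) hdM)
    intro q hq
    obtain ⟨w, ⟨hw, hwp⟩, -⟩ := existsUnique_fixOct ho hp hq
    have h1 : (v⁻¹ * (d : Equiv.Perm GolayPt)) * w = w * (v⁻¹ * (d : Equiv.Perm GolayPt)) := by
      rw [mul_assoc, hcomm w hw, ← mul_assoc, ← mul_assoc,
        fixOct_comm ho ((fixOct o).inv_mem hv) hw]
    have h2 := congrArg (fun f : Equiv.Perm GolayPt => f p) h1
    simp only [Equiv.Perm.mul_apply] at h2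
    rw [hwp, ← hvp, show v⁻¹ (v p) = p from v.symm_apply_apply p, hwp] at h2
    rw [Equiv.Perm.mul_apply]
    exact h2
  have hdv : (d : Equiv.Perm GolayPt) = v := (inv_mul_eq_one.1 hone).symm
  refine hodd d hd (Subtype.ext ?_)
  show (d : Equiv.Perm GolayPt) * (d : Equiv.Perm GolayPt) = 1
  rw [hdv]
  exact fixOct_sq ho hv

/-! ### groups isomorphic to `M23` -/

section iso

variable {X : Type*} [Group X]

theorem core_map {Y : Type*} [Group Y] (e : X ≃* Y) {t : X} {D : Subgroup X} (h : Core t D) :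
    Core (e t) (D.map e.toMonoidHom) where
  odd := by
    rw [Subgroup.card_map_of_injective e.injective]
    exact h.odd
  comm := by
    rintro _ ⟨d, hd, rfl⟩
    show e d * e t = e t * e d
    rw [← map_mul, h.comm d hd, map_mul]
  conj := by
    rintro c hc _ ⟨d, hd, rfl⟩
    refine ⟨e.symm c * d * (e.symm c)⁻¹, h.conj _ ?_ d hd, ?_⟩
    · apply e.injective
      rw [map_mul, map_mul, e.apply_symm_apply, hc]
    · show e (e.symm c * d * (e.symm c)⁻¹) = c * e d * c⁻¹
      rw [map_mul, map_mul, map_inv, e.apply_symm_apply]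

/-- Every involution of `M23` has a core-free centraliser. -/
theorem core_eq_bot [Finite X] (h : Spor.IsoM23 X) {t : X} (ht : orderOf t = 2) :
    centralizerPPrimeCore 2 t = ⊥ := by
  obtain ⟨e⟩ := h
  have h1 : e t * e t = 1 := by
    rw [← map_mul, ← pow_two, ← ht, pow_orderOf_eq_one, map_one]
  have h2 : e t ≠ 1 := by
    intro h3
    have h4 : t = 1 := (map_eq_one_iff e e.injective).1 h3
    rw [h4, orderOf_one] at ht
    omega
  have h3 := core_eq_bot_M23 h1 h2 (core_map e (core_centralizer t))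
  rwa [Subgroup.map_eq_bot_iff_of_injective _ e.injective] at h3

/-- Every automorphism is inner. -/
theorem exists_conj (h : Spor.IsoM23 X) (α : MulAut X) : ∃ m : X, α = MulAut.conj m := by
  obtain ⟨e⟩ := h
  obtain ⟨m, hm⟩ := Aut.exists_conj ((e.symm.trans α).trans e)
  refine ⟨e.symm m, ?_⟩
  apply MulEquiv.ext
  intro x
  have h1 := congrArg (fun f : MulAut Cfsg.Spor.M23 => f (e x)) hm
  change e (α (e.symm (e x))) = m * e x * m⁻¹ at h1
  rw [e.symm_apply_apply] at h1
  rw [← e.symm_apply_apply (α x), h1, map_mul, map_mul, map_inv, e.symm_apply_apply]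
  rfl

theorem not_comm (h : Spor.IsoM23 X) : ∃ a b : X, a * b ≠ b * a := by
  by_contra hcon
  push Not at hcon
  obtain ⟨e⟩ := h
  have h1 : ∀ a b : Cfsg.Spor.M23, a * b = b * a := by
    intro a b
    apply e.symm.injective
    rw [map_mul, map_mul, hcon]
  obtain ⟨y, hy, hy2⟩ := Cfsg.Agent.Schreier.MTwentyThree.exists_out {some 0} (by simp)
  obtain ⟨z, hz, hz2⟩ := Cfsg.Agent.Schreier.MTwentyThree.exists_out {some 0, y}
    (lt_of_le_of_lt Finset.card_le_two (by norm_num))
  rw [Finset.mem_singleton] at hy2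
  rw [Finset.mem_insert, Finset.mem_singleton, not_or] at hz2
  have h0 : (some 0 : GolayPt) ≠ none := by simp
  -- `a` fixes `some 0` and moves `y` to `z`, `b` maps `some 0` to `y`
  obtain ⟨a, ha1, ha2⟩ := Cfsg.Agent.Schreier.MTwentyThree.exists_two h0 hy (Ne.symm hy2) h0 hz (Ne.symm hz2.1)
  obtain ⟨b, hb⟩ := Cfsg.Agent.Schreier.MTwentyThree.exists_one h0 hy
  have h2 := congrArg (fun f : Cfsg.Spor.M23 => (f : Equiv.Perm GolayPt) (some 0)) (h1 a b)
  change (a : Equiv.Perm GolayPt) ((b : Equiv.Perm GolayPt) (some 0)) =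
    (b : Equiv.Perm GolayPt) ((a : Equiv.Perm GolayPt) (some 0)) at h2
  rw [hb, ha1, ha2, hb] at h2
  exact hz2.2 h2

end iso

/-! ### the end -/

variable {G : Type*} [Group G] [Finite G]

/-- If `F*(G)` is `M23` then `G = F*(G)`. -/
theorem fstar_eq_top (h : Spor.IsoM23 ↥(generalizedFittingSubgroup G)) :
    generalizedFittingSubgroup G = ⊤ := by
  have hn := Lib.GenFitting.genFitting_normal (G := G)
  rw [eq_top_iff]
  intro g _
  obtain ⟨m, hm⟩ := exists_conj h (MulAut.conjNormal (H := generalizedFittingSubgroup G) g)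
  have h1 : (m : G)⁻¹ * g ∈ Subgroup.centralizer (generalizedFittingSubgroup G : Set G) := by
    rw [Subgroup.mem_centralizer_iff]
    intro x hx
    have h2 := congrArg (fun f : MulAut ↥(generalizedFittingSubgroup G) => ((f ⟨x, hx⟩ : _) : G)) hm
    change g * x * g⁻¹ = (m : G) * x * (m : G)⁻¹ at h2
    have h3 : (m : G)⁻¹ * (g * x * g⁻¹) * g = x * ((m : G)⁻¹ * g) := by
      rw [h2]; group
    rw [← h3]
    group
  have h2 := Lib.GenFitting.centralizer_genFitting_le h1
  have h3 := (generalizedFittingSubgroup G).mul_mem m.2 h2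
  rwa [mul_inv_cancel_left] at h3

/-- **`M23` is an end**: if `F*(G)` is `M23` then `O(C(t)) = 1` for every involution `t` of `G`. -/
theorem core_eq_bot_of_fstar (h : Spor.IsoM23 ↥(generalizedFittingSubgroup G)) {t : G} (ht : orderOf t = 2) :
    centralizerPPrimeCore 2 t = ⊥ := by
  have h1 := fstar_eq_top h
  refine core_eq_bot (X := G) ?_ ht
  obtain ⟨e⟩ := h
  exact ⟨(Subgroup.topEquiv.symm.trans (MulEquiv.subgroupCongr h1.symm)).trans e⟩

/-! ### two commuting fixed involutions -/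

/-- Every automorphism of `M23` of order at most two fixes two commuting involutions. -/
theorem twoFix {X : Type*} [Group X] (h : Spor.IsoM23 X) (t : MulAut X) (ht : t * t = 1) :
    ∃ a b : X, a ≠ b ∧ orderOf a = 2 ∧ orderOf b = 2 ∧ a * b = b * a ∧ t a = a ∧ t b = b := by
  classical
  obtain ⟨m, rfl⟩ := exists_conj h t
  obtain ⟨e⟩ := h
  -- `e m * e m = 1`
  have hmm : e m * e m = 1 := by
    have h1 : ∀ x : Cfsg.Spor.M23, e (m * m) * x = x * e (m * m) := by
      intro x
      obtain ⟨y, rfl⟩ := e.surjective x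
      rw [← map_mul, ← map_mul]
      congr 1
      have h2 := congrArg (fun f : MulAut X => f y) ht
      change m * (m * y * m⁻¹) * m⁻¹ = y at h2
      have h3 : m * m * y * (m * m)⁻¹ = y := by
        calc m * m * y * (m * m)⁻¹ = m * (m * y * m⁻¹) * m⁻¹ := by group
          _ = y := h2
      rwa [mul_inv_eq_iff_eq_mul] at h3
    rw [← map_mul]
    -- an element commuting with everything is trivial
    by_contra hne
    have hne' : ((e (m * m) : Cfsg.Spor.M23) : Equiv.Perm GolayPt) ≠ 1 := fun h => hne (Subtype.ext h)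
    obtain ⟨x, hx⟩ : ∃ x, ((e (m * m) : Cfsg.Spor.M23) : Equiv.Perm GolayPt) x ≠ x := by
      by_contra hc
      push Not at hc
      exact hne' (Equiv.ext hc)
    have hx0 : x ≠ none := by
      rintro rfl
      exact hx (apply_none _)
    apply hx
    apply Cfsg.Agent.Schreier.MTwentyThree.eq_of_fixed hx0
      (Cfsg.Agent.Schreier.MTwentyThree.apply_ne _ hx0)
    intro n hn
    have h2 := congrArg (fun f : Cfsg.Spor.M23 => (f : Equiv.Perm GolayPt) x) (h1 n)
    change ((e (m * m) : Cfsg.Spor.M23) : Equiv.Perm GolayPt) ((n : Equiv.Perm GolayPt) x) =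
      (n : Equiv.Perm GolayPt) (((e (m * m) : Cfsg.Spor.M23) : Equiv.Perm GolayPt) x) at h2
    rw [show (n : Equiv.Perm GolayPt) x = x from hn] at h2
    exact h2.symm
  -- an octad whose pointwise stabiliser centralises `e m`
  obtain ⟨o, ho, h0, hc⟩ : ∃ o ∈ octads, none ∈ o ∧ ∀ v ∈ fixOct o,
      v * (e m : Equiv.Perm GolayPt) = (e m : Equiv.Perm GolayPt) * v := by
    by_cases h1 : e m = 1
    · obtain ⟨s, hs, hs5⟩ := Finset.exists_subset_card_eq
        (s := ({none} : Finset GolayPt)ᶜ) (n := 4) (by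
          rw [Finset.card_compl]
          have : Fintype.card GolayPt = 24 := by simp
          rw [this]
          simp)
      have hns : none ∉ s := fun h => by
        have := hs h
        simp at this
      obtain ⟨o, ⟨ho, hso⟩, -⟩ := S0363.result.2 (insert none s) (by
        rw [Finset.card_insert_of_notMem hns, hs5])
      refine ⟨o, ho, hso (Finset.mem_insert_self _ _), fun v _ => ?_⟩
      rw [h1]
      show v * 1 = 1 * v
      rw [mul_one, one_mul]
    · obtain ⟨o, ho, h0, hfix⟩ := exists_octad_M23 hmm h1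
      refine ⟨o, ho, h0, fun v hv => ?_⟩
      exact fixOct_comm ho hv (mem_fixOct.2 ⟨M23_le_M24 (e m).2, fun x hx => (hfix x).2 hx⟩)
  -- two involutions of the pointwise stabiliser
  have hcard := card_fixOct ho
  obtain ⟨p, hp⟩ := exists_out ho
  have hfx : ∀ q, q ∉ o → ∃ v ∈ fixOct o, v p = q := by
    intro q hq
    obtain ⟨v, ⟨hv, hvp⟩, -⟩ := existsUnique_fixOct ho hp hq
    exact ⟨v, hv, hvp⟩
  have h16 : (oᶜ).card = 16 := by
    rw [Finset.card_compl, octad_card ho]
    have : Fintype.card GolayPt = 24 := by simp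
    rw [this]
  obtain ⟨q, hq, hqp⟩ : ∃ q ∈ oᶜ, q ≠ p := Finset.exists_mem_ne (by omega) p
  obtain ⟨r, hr, hrp⟩ : ∃ r ∈ (oᶜ).erase p, r ≠ q := by
    apply Finset.exists_mem_ne
    rw [Finset.card_erase_of_mem (Finset.mem_compl.2 hp)]
    omega
  rw [Finset.mem_erase] at hr
  obtain ⟨v, hv, hvp⟩ := hfx q (Finset.mem_compl.1 hq)
  obtain ⟨w, hw, hwp⟩ := hfx r (Finset.mem_compl.1 hr.2)
  have hM : ∀ x ∈ fixOct o, x ∈ Cfsg.Spor.M23 := fun x hx =>
    (mem_M23_iff _).2 ⟨(mem_fixOct.1 hx).1, (mem_fixOct.1 hx).2 _ h0⟩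
  have hord : ∀ (x : Equiv.Perm GolayPt) (hx : x ∈ fixOct o), x p ≠ p →
      orderOf (e.symm ⟨x, hM x hx⟩) = 2 := by
    intro x hx hxp
    rw [MulEquiv.orderOf_eq]
    apply orderOf_eq_prime
    · rw [pow_two]
      exact Subtype.ext (fixOct_sq ho hx)
    · intro h1
      apply hxp
      have h2 : x = 1 := congrArg Subtype.val h1
      rw [h2]; rfl
  have hfixed : ∀ (x : Equiv.Perm GolayPt) (hx : x ∈ fixOct o),
      MulAut.conj m (e.symm ⟨x, hM x hx⟩) = e.symm ⟨x, hM x hx⟩ := by
    intro x hx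
    rw [MulAut.conj_apply, mul_inv_eq_iff_eq_mul]
    apply e.injective
    rw [map_mul, map_mul, e.apply_symm_apply]
    exact Subtype.ext (hc x hx).symm
  refine ⟨e.symm ⟨v, hM v hv⟩, e.symm ⟨w, hM w hw⟩, ?_, hord v hv (by rw [hvp]; exact hqp),
    hord w hw (by rw [hwp]; exact hr.1), ?_, hfixed v hv, hfixed w hw⟩
  · intro h1
    have h2 := e.symm.injective h1
    have h3 : v = w := congrArg Subtype.val h2
    apply hrp
    rw [← hwp, ← h3, hvp]
  · rw [← map_mul, ← map_mul]
    congr 1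
    exact Subtype.ext (fixOct_comm ho hv hw)

end Cfsg.Agent.UGT.MTwentyThree.End
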