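import Mathlib
import Cfsg.Agent.UGT.MTwentyThree.End
import Cfsg.Agent.UGT.EndBase

/-!
# `M23` is locally balanced
-/

set_option autoImplicit false

open Cfsg Subgroup

namespace Cfsg.Agent.UGT.MTwentyThree.LB

open Cfsg.Agent.UGT.EndBase
open Cfsg.Agent.Schreier.MTwentyThree (apply_none apply_ne eq_of_fixed)

universe u v

theorem center_bot : center Cfsg.Spor.M23 = ⊥ := by
  rw [Subgroup.eq_bot_iff_forall]
  intro c hc
  apply Subtype.ext
  apply Equiv.ext
  intro x
  show (c : Equiv.Perm GolayPt) x = x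
  by_cases hx0 : x = none
  · subst hx0
    exact apply_none c
  · apply eq_of_fixed hx0 (apply_ne c hx0)
    intro n hn
    have h2 := congrArg (fun f : Cfsg.Spor.M23 => (f : Equiv.Perm GolayPt) x) (mem_center_iff.1 hc n)
    change (n : Equiv.Perm GolayPt) ((c : Equiv.Perm GolayPt) x) =
      (c : Equiv.Perm GolayPt) ((n : Equiv.Perm GolayPt) x) at h2
    rw [show (n : Equiv.Perm GolayPt) x = x from hn] at h2
    exact h2

theorem autCoreFree : AutCoreFree Cfsg.Spor.M23 := by
  refine autCoreFree_of_inner (fun φ => ?_) center_bot (fun t ht => ?_)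
  · obtain ⟨m, hm⟩ := Aut.exists_conj φ
    exact ⟨m, hm.symm⟩
  · refine noOdd_conj t fun Y hY h1 h2 => ?_
    refine End.core_eq_bot_M23 (t := t) ?_ ?_ ⟨hY, h1, h2⟩
    · rw [← pow_two, ← ht, pow_orderOf_eq_one]
    · rintro rfl
      rw [orderOf_one] at ht
      omega

/-- **`M23` is locally balanced.** -/
theorem locallyBalanced {X : Type v} [Group X] (e : X ≃* Cfsg.Spor.M23) : IsLocallyBalanced X := by
  have : Finite X := Finite.of_equiv _ e.symm.toEquiv
  refine (autCoreFree.congr e.symm).locallyBalanced ?_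
  rw [Subgroup.eq_bot_iff_forall]
  intro c hc
  have h1 : e c ∈ center Cfsg.Spor.M23 := by
    rw [mem_center_iff] at hc ⊢
    intro g
    obtain ⟨y, rfl⟩ := e.surjective g
    rw [← map_mul, ← map_mul, hc]
  rw [center_bot, mem_bot] at h1
  exact (map_eq_one_iff e e.injective).1 h1

end Cfsg.Agent.UGT.MTwentyThree.LB
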